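import Groth.Agent.Lib.GrNormal27.Basic
import Groth.Agent.S10862
import Groth.Agent.Lib.AffDom.Formula
import Groth.Agent.Lib.Dim.Ring
import Groth.Agent.Lib.NormalSerre.AssPrincipal
import Groth.Agent.Lib.LC.Seq
import Groth.Agent.Lib.LC.Torsion

/-!
# Finite length of the normalisation cokernel and local cohomology
-/

set_option autoImplicit false
universe u

open DirectSum CategoryTheory

noncomputable section

namespace GrothLib.GrNormal27

variable {k G : Type u} [Field k] [CommRing G] [IsDomain G] [Algebra k G] [IsNoetherianRing G]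
  (𝒢 : ℕ → Submodule k G) [GradedAlgebra 𝒢] (h0 : ∀ x ∈ 𝒢 0, x ∈ Set.range (algebraMap k G))
  (L : Type u) [Field L] [Algebra G L] [IsFractionRing G L]

include 𝒢 h0 in
theorem finite_integralClosure : Module.Finite G (integralClosure G L) := by
  haveI := finiteType 𝒢 h0
  exact Groth.Agent.S10862.result k G L L

theorem exists_mul_mem_of_isIntegrallyClosed (p : Ideal G) [p.IsPrime]
    [IsIntegrallyClosed (Localization.AtPrime p)] {y : L} (hy : IsIntegral G y) :
    ∃ s ∉ p, ∃ g, algebraMap G L g = algebraMap G L s * y := by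
  let f : Localization.AtPrime p →+* L := IsLocalization.lift (g := algebraMap G L) fun s : p.primeCompl =>
    (isUnit_iff_ne_zero).2 fun h => s.2 (by rw [(map_eq_zero_iff _ (IsFractionRing.injective G L)).1 h]; exact p.zero_mem)
  letI := f.toAlgebra
  haveI : IsScalarTower G (Localization.AtPrime p) L :=
    IsScalarTower.of_algebraMap_eq fun x => (IsLocalization.lift_eq _ x).symm
  haveI : IsFractionRing (Localization.AtPrime p) L :=
    IsFractionRing.isFractionRing_of_isDomain_of_isLocalization p.primeCompl (Localization.AtPrime p) L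
  obtain ⟨a, ha⟩ := IsIntegrallyClosed.isIntegral_iff.1 (hy.tower_top (A := Localization.AtPrime p))
  obtain ⟨⟨g, s⟩, hgs⟩ := IsLocalization.surj p.primeCompl a
  refine ⟨s, s.2, g, ?_⟩
  have h := congrArg (algebraMap (Localization.AtPrime p) L) hgs
  rw [map_mul, ha, ← IsScalarTower.algebraMap_apply, ← IsScalarTower.algebraMap_apply] at h
  rw [← h, mul_comm]

include h0 in
theorem isFiniteLength_of_normal
    (hn : ∀ (p : Ideal G) [p.IsPrime], ¬ (HomogeneousIdeal.irrelevant 𝒢).toIdeal ≤ p →
      IsIntegrallyClosed (Localization.AtPrime p)) :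
    IsFiniteLength G (NQ (G := G) L) := by
  classical
  haveI := finite_integralClosure 𝒢 h0 L
  haveI := isMaximal_irrelevant 𝒢 h0
  set I := (HomogeneousIdeal.irrelevant 𝒢).toIdeal with hI
  obtain ⟨n, gen, hgen⟩ := Module.Finite.exists_fin (R := G) (M := NQ (G := G) L)
  have hrad : I ≤ (Module.annihilator G (NQ (G := G) L)).radical := by
    rw [Ideal.radical_eq_sInf]
    refine le_sInf fun P hP => ?_
    obtain ⟨hcP, hPp⟩ := hP
    by_contra hnot
    haveI := hn P hnot
    have hy : ∀ i, ∃ s ∉ P, s • gen i = 0 := fun i => by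
      obtain ⟨⟨y, hy⟩, he⟩ := Submodule.Quotient.mk_surjective _ (gen i)
      obtain ⟨s, hs, g, hg⟩ := exists_mul_mem_of_isIntegrallyClosed L P hy
      refine ⟨s, hs, ?_⟩
      rw [← he, ← Submodule.Quotient.mk_smul, Submodule.Quotient.mk_eq_zero]
      exact ⟨g, Subtype.ext (hg.trans (Algebra.smul_def s y).symm)⟩
    choose s hs hs0 using hy
    have hprod : ∏ i, s i ∈ Module.annihilator G (NQ (G := G) L) := by
      rw [Module.mem_annihilator]
      intro q
      have hq : q ∈ Submodule.span G (Set.range gen) := hgen ▸ Submodule.mem_top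
      induction hq using Submodule.span_induction with
      | mem x hx =>
        obtain ⟨i, rfl⟩ := hx
        rw [← Finset.prod_erase_mul _ _ (Finset.mem_univ i), mul_smul, hs0, smul_zero]
      | zero => exact smul_zero _
      | add a b _ _ ha hb => rw [smul_add, ha, hb, add_zero]
      | smul a b _ hb => rw [smul_comm, hb, smul_zero]
    obtain ⟨i, -, hi⟩ := (hPp.prod_mem_iff).1 (hcP hprod)
    exact hs i hi
  obtain ⟨N, hN⟩ := Ideal.exists_pow_le_of_le_radical_of_fg hrad (IsNoetherian.noetherian _)
  have key : ∀ (N : ℕ) (W : Type u) [AddCommGroup W] [Module G W] [Module.Finite G W],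
      (∀ a ∈ I ^ N, ∀ x : W, a • x = 0) → IsArtinian G W := by
    intro N
    induction N with
    | zero =>
      intro W _ _ _ h
      haveI : Subsingleton W := ⟨fun x y => by
        rw [← one_smul G x, ← one_smul G y, h 1 (by simp) x, h 1 (by simp) y]⟩
      infer_instance
    | succ N ih =>
      intro W _ _ _ h
      let V : Submodule G W := I • ⊤
      haveI : Module.Finite G V := Module.Finite.iff_fg.2 (IsNoetherian.noetherian V)
      haveI : IsArtinian G V := ih V fun a ha x => Subtype.ext (Submodule.smul_induction_on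
        (p := fun y => a • y = 0) x.2
        (fun b hb y _ => by rw [smul_smul]; exact h _ (by rw [pow_succ]; exact Ideal.mul_mem_mul ha hb) y)
        fun y z hy hz => by rw [smul_add, hy, hz, add_zero])
      haveI : IsArtinianRing (G ⧸ I) := by
        letI := Ideal.Quotient.field I
        infer_instance
      haveI : IsArtinian (G ⧸ I) (W ⧸ I • (⊤ : Submodule G W)) := inferInstance
      haveI : IsArtinian G (W ⧸ V) :=
        isArtinian_of_surjective_algebraMap (R := G ⧸ I) (S := G) Ideal.Quotient.mk_surjective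
      exact (isArtinian_iff_submodule_quotient V).2 ⟨inferInstance, inferInstance⟩
  exact isFiniteLength_iff_isNoetherian_isArtinian.2 ⟨inferInstance,
    key N _ fun a ha x => Module.mem_annihilator.1 (hN ha) x⟩

include h0 in
theorem isIntegrallyClosed_of_finiteLength (hfin : IsFiniteLength G (NQ (G := G) L)) (p : Ideal G) [p.IsPrime]
    (hp : ¬ (HomogeneousIdeal.irrelevant 𝒢).toIdeal ≤ p) : IsIntegrallyClosed (Localization.AtPrime p) := by
  obtain ⟨N, hN⟩ := exists_pow_le_annihilator 𝒢 L h0 hfin
  obtain ⟨h, hh, hhp⟩ := Set.not_subset.1 hp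
  let f : Localization.AtPrime p →+* L := IsLocalization.lift (g := algebraMap G L) fun s : p.primeCompl =>
    (isUnit_iff_ne_zero).2 fun h => s.2 (by rw [(map_eq_zero_iff _ (IsFractionRing.injective G L)).1 h]; exact p.zero_mem)
  letI := f.toAlgebra
  haveI : IsScalarTower G (Localization.AtPrime p) L :=
    IsScalarTower.of_algebraMap_eq fun x => (IsLocalization.lift_eq _ x).symm
  haveI : IsFractionRing (Localization.AtPrime p) L :=
    IsFractionRing.isFractionRing_of_isDomain_of_isLocalization p.primeCompl (Localization.AtPrime p) L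
  refine (isIntegrallyClosed_iff L).2 fun {x} hx => ?_
  obtain ⟨⟨t, ht⟩, hint⟩ := IsIntegral.exists_multiple_integral_of_isLocalization p.primeCompl x hx
  obtain ⟨g, hg⟩ := (mem_annihilator_iff L (h ^ N)).1 (hN (Ideal.pow_mem_pow hh N)) _ hint
  have hu : h ^ N * t ∈ p.primeCompl := p.primeCompl.mul_mem (fun hh' => hhp (Ideal.IsPrime.mem_of_pow_mem ‹_› N hh')) ht
  refine ⟨IsLocalization.mk' _ g ⟨_, hu⟩, ?_⟩
  have hne : algebraMap G L (h ^ N * t) ≠ 0 := fun h' => hu (by
    rw [(map_eq_zero_iff _ (IsFractionRing.injective G L)).1 h']; exact p.zero_mem)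
  refine mul_left_cancel₀ hne ?_
  rw [IsScalarTower.algebraMap_apply G (Localization.AtPrime p) L (h ^ N * t), ← map_mul,
    IsLocalization.mk'_spec'_mk, ← IsScalarTower.algebraMap_apply, hg, Submonoid.smul_def, Algebra.smul_def,
    ← IsScalarTower.algebraMap_apply, map_mul]
  ring

variable (hdim : 2 ≤ ringKrullDim G)

include h0 hdim in
/-- The cokernel of the normalisation is the first local cohomology. -/
theorem nonempty_equiv_H_one (hfin : IsFiniteLength G (NQ (G := G) L)) :
    Nonempty (NQ (G := G) L ≃ₗ[G] LocCoh.H (HomogeneousIdeal.irrelevant 𝒢).toIdeal 1 G) := by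
  classical
  set I := (HomogeneousIdeal.irrelevant 𝒢).toIdeal with hI
  haveI := isMaximal_irrelevant 𝒢 h0
  haveI := finite_integralClosure 𝒢 h0 L
  haveI := finiteType 𝒢 h0
  obtain ⟨N, hN⟩ := exists_pow_le_annihilator 𝒢 L h0 hfin
  have hinj : Function.Injective (algebraMap G (integralClosure G L)) := fun a b h =>
    IsFractionRing.injective G L (congrArg Subtype.val h)
  haveI hfr : IsFractionRing (integralClosure G L) L := integralClosure.isFractionRing_of_finite_extension L L
  haveI hIC : IsIntegrallyClosed (integralClosure G L) := integralClosure.isIntegrallyClosedOfFiniteExtension L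
  haveI : Algebra.FiniteType G (integralClosure G L) := inferInstance
  letI : Algebra k (integralClosure G L) := ((algebraMap G (integralClosure G L)).comp (algebraMap k G)).toAlgebra
  haveI : IsScalarTower k G (integralClosure G L) := IsScalarTower.of_algebraMap_eq fun _ => rfl
  haveI : Algebra.FiniteType k (integralClosure G L) := Algebra.FiniteType.trans (S := G) inferInstance inferInstance
  haveI : IsNoetherianRing (integralClosure G L) := Algebra.FiniteType.isNoetherianRing k _
  obtain ⟨x, hx, hx0⟩ : ∃ x ∈ I, x ≠ 0 := by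
    by_contra h
    push_neg at h
    have hb : I = ⊥ := eq_bot_iff.2 fun x hx => h x hx
    have hG : IsField G := (Ring.isField_iff_isSimpleOrder_ideal).2 (by
      haveI : (⊥ : Ideal G).IsMaximal := hb ▸ inferInstance
      exact isSimpleOrder_iff_isCoatom_bot.2 (Ideal.IsMaximal.out))
    letI := hG.toField
    rw [ringKrullDim_eq_zero_of_field] at hdim
    norm_cast at hdim
  let C := integralClosure G L
  have hne : algebraMap G C x ≠ 0 := fun h => hx0 (hinj (by rw [h, map_zero]))
  -- no element killed by a power of `I` modulo `x`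
  have hdepth : ∀ z : C, (∃ n : ℕ, ∀ a ∈ I ^ n, algebraMap G C x ∣ algebraMap G C a * z) → algebraMap G C x ∣ z := by
    rintro z ⟨n, hn⟩
    by_contra hz
    set z' : C ⧸ Ideal.span {algebraMap G C x} := Ideal.Quotient.mk _ z with hz'
    have hz0 : z' ≠ 0 := fun h => hz (Ideal.mem_span_singleton.1 (Ideal.Quotient.eq_zero_iff_mem.1 h))
    obtain ⟨P, hP, hle⟩ := exists_le_isAssociatedPrime_of_isNoetherianRing C z' hz0
    have hP1 := GrothLib.NormalSerre.height_eq_one_of_mem_associatedPrimes hne (AssociatedPrimes.mem_iff.2 hP)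
    haveI := hP.isPrime
    have hIP : I ≤ P.comap (algebraMap G C) := by
      refine ((hP.isPrime.comap (algebraMap G C)).le_of_pow_le (n := n) ?_)
      intro a ha
      refine Ideal.mem_comap.2 (hle ?_)
      rw [Submodule.mem_colon_singleton, Submodule.mem_bot, hz']
      change Ideal.Quotient.mk _ (algebraMap G C a * z) = 0
      rw [Ideal.Quotient.eq_zero_iff_mem, Ideal.mem_span_singleton]
      exact hn a ha
    have hcm : (P.comap (algebraMap G C)).IsMaximal := by
      rw [← (inferInstance : I.IsMaximal).eq_of_le (hP.isPrime.comap (algebraMap G C)).ne_top hIP]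
      infer_instance
    haveI hPm : P.IsMaximal := Ideal.isMaximal_of_isIntegral_of_isMaximal_comap P hcm
    have hd := GrothLib.AffDom.height_add_ringKrullDim_quotient (k := k) C P
    letI := Ideal.Quotient.field P
    rw [hP1, ringKrullDim_eq_zero_of_field, add_zero] at hd
    haveI : FaithfulSMul G C := (faithfulSMul_iff_algebraMap_injective G C).2 hinj
    rw [GrothLib.Dim.ringKrullDim_eq_of_isIntegral hinj] at hd
    rw [← hd] at hdim
    norm_cast at hdim
  -- vanishing for the normalisation
  haveI hH0 : Subsingleton ((localCohomology I 0).obj (ModuleCat.of G C)) := by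
    refine (GrothLib.LC.torsionEquiv I (ModuleCat.of G C)).symm.toEquiv.subsingleton_congr.2 ?_
    refine subsingleton_of_forall_eq 0 fun w => Subtype.ext ?_
    obtain ⟨n, hn⟩ := (GrothLib.LC.mem_torsionSub_iff I C w.1).1 w.2
    have h : x ^ n • (w.1 : C) = 0 := (Submodule.mem_annihilator_span_singleton _ _).1 (hn (Ideal.pow_mem_pow hx n))
    rw [Algebra.smul_def, mul_eq_zero] at h
    exact h.resolve_left (by rw [map_pow]; exact pow_ne_zero n hne)
  haveI hH1 : Subsingleton ((localCohomology I 1).obj (ModuleCat.of G C)) := by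
    let m : C →ₗ[G] C := LinearMap.lsmul G C x
    have hS : (ShortComplex.mk (X₁ := ModuleCat.of G C) (X₂ := ModuleCat.of G C)
        (X₃ := ModuleCat.of G (C ⧸ LinearMap.range m)) (ModuleCat.ofHom m) (ModuleCat.ofHom (LinearMap.range m).mkQ)
        (ModuleCat.hom_ext (LinearMap.range_mkQ_comp m))).ShortExact :=
      { exact := (ShortComplex.moduleCat_exact_iff _).2 fun y hy => (Submodule.Quotient.mk_eq_zero _).1 hy
        mono_f := (ModuleCat.mono_iff_injective _).2 fun a b h => by
          change x • (show C from a) = x • (show C from b) at h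
          rw [Algebra.smul_def, Algebra.smul_def] at h
          exact mul_left_cancel₀ hne h
        epi_g := (ModuleCat.epi_iff_surjective _).2 (Submodule.mkQ_surjective _) }
    haveI : Subsingleton ((localCohomology I 0).obj (ModuleCat.of G (C ⧸ LinearMap.range m))) := by
      refine (GrothLib.LC.torsionEquiv I (ModuleCat.of G (C ⧸ LinearMap.range m))).symm.toEquiv.subsingleton_congr.2 ?_
      refine subsingleton_of_forall_eq 0 fun w => Subtype.ext ?_
      obtain ⟨w, hw⟩ := w
      obtain ⟨z, rfl⟩ := Submodule.Quotient.mk_surjective (LinearMap.range m) w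
      obtain ⟨n, hn⟩ := (GrothLib.LC.mem_torsionSub_iff I _ _).1 hw
      obtain ⟨d, hd⟩ := hdepth z ⟨n, fun a ha => by
        have := (Submodule.mem_annihilator_span_singleton _ _).1 (hn ha)
        rw [← Submodule.Quotient.mk_smul, Submodule.Quotient.mk_eq_zero] at this
        obtain ⟨c, hc⟩ := this
        exact ⟨c, by rw [← Algebra.smul_def, ← Algebra.smul_def]; exact hc.symm⟩⟩
      exact (Submodule.Quotient.mk_eq_zero _).2 ⟨d, (Algebra.smul_def x d).trans hd.symm⟩
    have key : ∀ y : (localCohomology I 1).obj (ModuleCat.of G C), x • y = 0 → y = 0 := fun y hy => by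
      have h : (localCohomology I 1).map (ModuleCat.ofHom m) y = 0 := by
        obtain ⟨n, e, rfl⟩ := GrothLib.LC.exists_toH I y
        rw [GrothLib.LC.map_toH, show ModuleCat.ofHom m = x • 𝟙 (ModuleCat.of G C) from rfl,
          Abelian.Ext.mk₀_smul, Abelian.Ext.comp_smul, Abelian.Ext.comp_mk₀_id, map_smul]
        exact hy
      obtain ⟨w, rfl⟩ := GrothLib.LC.exists_of_map_f_eq_zero I hS 0 (x := y) h
      rw [Subsingleton.elim w 0, map_zero]
    refine subsingleton_of_forall_eq 0 fun y => ?_
    obtain ⟨n, hn⟩ := GrothLib.LC.isPowerTorsion I 1 (ModuleCat.of G C) y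
    have hn' : x ^ n • y = 0 := hn _ (Ideal.pow_mem_pow hx n)
    clear hn
    induction n with
    | zero => rwa [pow_zero, one_smul] at hn'
    | succ n ihn => exact ihn (key _ (by rwa [smul_smul, ← pow_succ']))
  -- the sequence
  let ι : G →ₗ[G] C := Algebra.linearMap G C
  have hS : (ShortComplex.mk (X₁ := ModuleCat.of G G) (X₂ := ModuleCat.of G C)
      (X₃ := ModuleCat.of G (C ⧸ LinearMap.range ι)) (ModuleCat.ofHom ι) (ModuleCat.ofHom (LinearMap.range ι).mkQ)
      (ModuleCat.hom_ext (LinearMap.range_mkQ_comp ι))).ShortExact :=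
    { exact := (ShortComplex.moduleCat_exact_iff _).2 fun y hy => (Submodule.Quotient.mk_eq_zero _).1 hy
      mono_f := (ModuleCat.mono_iff_injective _).2 hinj
      epi_g := (ModuleCat.epi_iff_surjective _).2 (Submodule.mkQ_surjective _) }
  have hbij : Function.Bijective (GrothLib.LC.δ I hS 0) := by
    refine ⟨(injective_iff_map_eq_zero _).2 fun w hw => ?_, fun y => ?_⟩
    · obtain ⟨v, rfl⟩ := GrothLib.LC.exists_of_δ_eq_zero I hS 0 (x := w) hw
      rw [Subsingleton.elim v 0, map_zero]
    · exact GrothLib.LC.exists_of_map_f_eq_zero I hS 0 (x := y) (Subsingleton.elim _ _)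
  have htop : DRing.torsionSub I (NQ (G := G) L) = ⊤ := eq_top_iff.2 fun q _ =>
    (GrothLib.LC.mem_torsionSub_iff I _ q).2 ⟨N, fun a ha => (Submodule.mem_annihilator_span_singleton _ _).2 (Module.mem_annihilator.1 (hN ha) q)⟩
  exact ⟨(LinearEquiv.ofTop _ htop).symm.trans ((GrothLib.LC.torsionEquiv I (ModuleCat.of G (NQ (G := G) L))).trans
    (LinearEquiv.ofBijective _ hbij))⟩

end GrothLib.GrNormal27
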