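import Groth.Agent.Lib.GrNormal27.Basic
import Mathlib.RingTheory.GradedAlgebra.HomogeneousLocalization
import Mathlib.RingTheory.LocalRing.Basic
import Mathlib.Algebra.BigOperators.Field
import Mathlib.Tactic.FieldSimp

/-!
# Normality at a prime from normality of the homogeneous localisation
-/

set_option autoImplicit false
universe u

open DirectSum Polynomial

noncomputable section

namespace GrothLib.GrNormal27

variable {k G : Type u} [CommRing k] [CommRing G] [IsDomain G] [Algebra k G] (𝒢 : ℕ → Submodule k G)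
  [GradedAlgebra 𝒢] (L : Type u) [Field L] [Algebra G L] [IsFractionRing G L]

theorem exists_mul_of_isHomL {z : L} (hz : IsIntegral G z) {i : ℕ} (hi : IsHomL 𝒢 L z i)
    (P : Ideal G) [P.IsPrime] [IsIntegrallyClosed (HomogeneousLocalization.AtPrime 𝒢 P)]
    [IsDomain (HomogeneousLocalization.AtPrime 𝒢 P)]
    {d : ℕ} {a s : G} (ha : a ∈ 𝒢 (d + 1)) (hs : s ∈ 𝒢 d) (haP : a ∉ P) (hsP : s ∉ P) :
    ∃ u ∉ P, ∃ g, algebraMap G L g = algebraMap G L u * z := by
  classical
  have hinj := IsFractionRing.injective G L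
  have hne : ∀ {x : G}, x ∉ P → algebraMap G L x ≠ 0 := fun hx h => hx (by
    rw [(map_eq_zero_iff _ hinj).1 h]; exact P.zero_mem)
  let lf : Localization.AtPrime P →+* L := IsLocalization.lift (g := algebraMap G L) fun x : P.primeCompl =>
    (isUnit_iff_ne_zero).2 (hne x.2)
  let f : HomogeneousLocalization.AtPrime 𝒢 P →+* L :=
    lf.comp (algebraMap (HomogeneousLocalization.AtPrime 𝒢 P) (Localization.AtPrime P))
  have hf : ∀ (D : ℕ) (x y : G) (hx : x ∈ 𝒢 D) (hy : y ∈ 𝒢 D) (hyP : y ∈ P.primeCompl),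
      f (HomogeneousLocalization.mk (⟨D, ⟨x, hx⟩, ⟨y, hy⟩, hyP⟩ : HomogeneousLocalization.NumDenSameDeg 𝒢 P.primeCompl)) * algebraMap G L y = algebraMap G L x := by
    intro D x y hx hy hyP
    have e : ∀ w : G, lf (algebraMap G (Localization.AtPrime P) w) = algebraMap G L w := fun w =>
      IsLocalization.lift_eq _ w
    change lf (Localization.mk x ⟨y, hyP⟩) * algebraMap G L y = algebraMap G L x
    rw [← e y, ← map_mul, Localization.mk_eq_mk']
    exact (congrArg lf (IsLocalization.mk'_spec (Localization.AtPrime P) x (⟨y, hyP⟩ : P.primeCompl))).trans (e x)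
  have hfinj : Function.Injective f := by
    refine ((RingHom.injective_iff_ker_eq_bot lf).2 ?_).comp (HomogeneousLocalization.val_injective _)
    rw [eq_bot_iff]
    intro q hq
    obtain ⟨x, y, rfl⟩ := IsLocalization.exists_mk'_eq P.primeCompl q
    rw [RingHom.mem_ker, IsLocalization.lift_mk'_spec, mul_zero, map_eq_zero_iff _ hinj] at hq
    rw [Ideal.mem_bot, hq, IsLocalization.mk'_zero]
  -- a fraction of homogeneous elements
  obtain ⟨⟨num, den⟩, hnd⟩ := IsLocalization.surj (nonZeroDivisors G) z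
  obtain ⟨n, hn⟩ : ∃ n, (decompose 𝒢 (den : G) n : G) ≠ 0 := by
    by_contra h
    push_neg at h
    exact nonZeroDivisors.coe_ne_zero den ((decompose 𝒢).injective (by
      rw [decompose_zero]; exact DFinsupp.ext fun n => Subtype.ext (h n)))
  set h := (decompose 𝒢 (den : G) n : G)
  set g := (decompose 𝒢 num (i + n) : G)
  have hgh : z * algebraMap G L h = algebraMap G L g := by
    have h1 := congrArg (coactF 𝒢 L) hnd
    rw [map_mul, coactF_algebraMap, coactF_algebraMap, show coactF 𝒢 L z = _ from hi, ← map_mul] at h1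
    have h2 := congrArg (fun q : L[X] => q.coeff (n + i)) (IsFractionRing.injective L[X] (FractionRing L[X]) h1)
    simp only [mul_comm (monomial i z), coeff_mul_monomial, coactL_coeff] at h2
    rw [add_comm n i] at h2
    rw [mul_comm]; exact h2
  set θ := algebraMap G L a / algebraMap G L s
  have hθ : θ * algebraMap G L s = algebraMap G L a := div_mul_cancel₀ _ (hne hsP)
  have hθ0 : θ ≠ 0 := div_ne_zero (hne haP) (hne hsP)
  set z' := z / θ ^ i
  have hz' : z' * θ ^ i = z := div_mul_cancel₀ _ (pow_ne_zero _ hθ0)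
  have hpow : ∀ m : ℕ, (a ^ m ∈ 𝒢 ((d + 1) * m)) ∧ (s ^ m ∈ 𝒢 (d * m)) ∧ a ^ m ∈ P.primeCompl := fun m =>
    ⟨by simpa [mul_comm] using SetLike.pow_mem_graded m ha, by simpa [mul_comm] using SetLike.pow_mem_graded m hs,
      fun h' => haP (Ideal.IsPrime.mem_of_pow_mem ‹_› m h')⟩
  have hdeg0 : ∀ (D : ℕ) (x : G), x ∈ 𝒢 D → ∃ q, f q = algebraMap G L x / θ ^ D := by
    intro D x hx
    obtain ⟨hm1, hm2, hm3⟩ := hpow D
    have hxs : x * s ^ D ∈ 𝒢 ((d + 1) * D) := by
      rw [show (d + 1) * D = D + d * D by ring]; exact SetLike.mul_mem_graded hx hm2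
    refine ⟨HomogeneousLocalization.mk ⟨(d + 1) * D, ⟨_, hxs⟩, ⟨_, hm1⟩, hm3⟩, ?_⟩
    have e := hf _ _ _ hxs hm1 hm3
    rw [map_mul, map_pow, map_pow] at e
    rw [eq_div_iff (pow_ne_zero _ hθ0)]
    refine mul_right_cancel₀ (pow_ne_zero D (hne hsP)) ?_
    rw [mul_assoc, ← mul_pow, hθ, e]
  -- integrality over the homogeneous localisation
  obtain ⟨p, hp, hpz⟩ := hz
  set n' := p.natDegree
  have hrel : ∀ m, ∃ q, f q = algebraMap G L (decompose 𝒢 (p.coeff m) ((n' - m) * i) : G) / θ ^ ((n' - m) * i) :=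
    fun m => hdeg0 _ _ (decompose 𝒢 (p.coeff m) ((n' - m) * i)).2
  choose cq hcq using hrel
  have hsum : ∑ m ∈ Finset.range (n' + 1),
      algebraMap G L (decompose 𝒢 (p.coeff m) ((n' - m) * i) : G) * z ^ m = 0 := by
    have h1 := congrArg (coactF 𝒢 L) hpz
    rw [Polynomial.eval₂_eq_sum_range, map_sum, map_zero] at h1
    have h2 : ∑ m ∈ Finset.range (n' + 1), coactL 𝒢 L (p.coeff m) * monomial (i * m) (z ^ m) = 0 :=
      IsFractionRing.injective L[X] (FractionRing L[X]) (by
        rw [map_sum, map_zero, ← h1]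
        refine Finset.sum_congr rfl fun m _ => ?_
        rw [map_mul, map_mul, map_pow (coactF 𝒢 L), coactF_algebraMap, show coactF 𝒢 L z = _ from hi, ← map_pow, monomial_pow])
    have h3 := congrArg (fun q : L[X] => q.coeff (n' * i)) h2
    rw [Polynomial.finsetSum_coeff, Polynomial.coeff_zero] at h3
    rw [← h3]
    refine Finset.sum_congr rfl fun m hm => ?_
    rw [Finset.mem_range] at hm
    rw [show n' * i = (n' - m) * i + i * m by rw [mul_comm i m, ← add_mul, Nat.sub_add_cancel (by omega)],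
      coeff_mul_monomial, coactL_coeff]
  letI : Algebra (HomogeneousLocalization.AtPrime 𝒢 P) L := f.toAlgebra
  let K := FractionRing (HomogeneousLocalization.AtPrime 𝒢 P)
  let fK : K →+* L := IsFractionRing.lift (A := HomogeneousLocalization.AtPrime 𝒢 P) hfinj
  obtain ⟨Q, hQ⟩ : ∃ Q : K, fK Q = z' := by
    obtain ⟨qg, hqg⟩ := hdeg0 (i + n) g (decompose 𝒢 num (i + n)).2
    obtain ⟨qh, hqh⟩ := hdeg0 n h (decompose 𝒢 (den : G) n).2
    refine ⟨algebraMap _ K qg / algebraMap _ K qh, ?_⟩
    rw [map_div₀, IsFractionRing.lift_algebraMap, IsFractionRing.lift_algebraMap, hqg, hqh, ← hgh]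
    have hh0 : algebraMap G L h ≠ 0 := fun h' => hn ((map_eq_zero_iff _ hinj).1 h')
    rw [pow_add]
    field_simp
    rw [← hz']; ring
  have hint : IsIntegral (HomogeneousLocalization.AtPrime 𝒢 P) Q := by
    refine ⟨∑ m ∈ Finset.range (n' + 1), monomial m (cq m), ?_, ?_⟩
    · refine monic_of_natDegree_le_of_coeff_eq_one n' ?_ ?_
      · exact natDegree_sum_le_of_forall_le _ _ fun m hm => (natDegree_monomial_le _).trans (by
          rw [Finset.mem_range] at hm; omega)
      · rw [finsetSum_coeff, Finset.sum_eq_single n' (fun m _ hm => coeff_monomial_of_ne _ hm.symm)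
          (fun h => absurd (Finset.self_mem_range_succ n') h), coeff_monomial_same]
        apply hfinj
        rw [hcq, map_one, Nat.sub_self, zero_mul, pow_zero, div_one, show p.coeff n' = 1 from hp.coeff_natDegree,
          decompose_of_mem_same 𝒢 SetLike.GradedOne.one_mem, map_one]
    · apply fK.injective
      rw [map_zero, eval₂_finsetSum, map_sum]
      have hh : ∀ m ∈ Finset.range (n' + 1), fK (eval₂ (algebraMap _ K) Q (monomial m (cq m))) =
          algebraMap G L (decompose 𝒢 (p.coeff m) ((n' - m) * i) : G) * z ^ m / θ ^ (n' * i) := fun m hm => by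
        rw [Finset.mem_range] at hm
        rw [eval₂_monomial, map_mul, map_pow, IsFractionRing.lift_algebraMap, hcq, hQ, ← hz', mul_pow, ← pow_mul,
          show n' * i = (n' - m) * i + i * m by rw [mul_comm i m, ← add_mul, Nat.sub_add_cancel (by omega)], pow_add]
        field_simp
      rw [Finset.sum_congr rfl hh, ← Finset.sum_div, hsum, zero_div]
  obtain ⟨q, hq⟩ := IsIntegrallyClosed.isIntegral_iff.1 hint
  obtain ⟨⟨D, ⟨x, hx⟩, ⟨y, hy⟩, hyP⟩, rfl⟩ := HomogeneousLocalization.mk_surjective q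
  have hzq : z' * algebraMap G L y = algebraMap G L x := by
    rw [← hQ, ← hq, IsFractionRing.lift_algebraMap]
    exact hf D x y hx hy hyP
  refine ⟨y * s ^ i, fun h' => (Ideal.IsPrime.mem_or_mem ‹_› h').elim hyP fun h'' =>
    hsP (Ideal.IsPrime.mem_of_pow_mem ‹_› i h''), x * a ^ i, ?_⟩
  rw [map_mul, map_mul, ← hzq, map_pow, map_pow, ← hθ, mul_pow]
  linear_combination (algebraMap G L y * algebraMap G L s ^ i) * hz'

theorem exists_mul_of_isIntegral (p P : Ideal G) [p.IsPrime] [P.IsPrime] (hPp : P ≤ p)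
    [IsIntegrallyClosed (HomogeneousLocalization.AtPrime 𝒢 P)] [IsDomain (HomogeneousLocalization.AtPrime 𝒢 P)]
    (hhom : ∀ (n : ℕ), ∀ x ∈ 𝒢 n, x ∈ p → x ∈ P) (hP : P.IsHomogeneous 𝒢)
    {d : ℕ} {a s : G} (ha : a ∈ 𝒢 (d + 1)) (hs : s ∈ 𝒢 d) (haP : a ∉ P) (hsP : s ∉ P)
    {y : L} (hy : IsIntegral G y) : ∃ u ∉ p, ∃ g, algebraMap G L g = algebraMap G L u * y := by
  classical
  have hmem := exists_homogeneous_sum 𝒢 L hy
  clear hy
  induction hmem using AddSubgroup.closure_induction with
  | mem z hz =>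
    obtain ⟨hzint, i, hi⟩ := hz
    obtain ⟨u, hu, g, hg⟩ := exists_mul_of_isHomL 𝒢 L hzint hi P ha hs haP hsP
    -- a homogeneous component of the multiplier lies outside `P`
    obtain ⟨j, hj⟩ : ∃ j, (decompose 𝒢 u j : G) ∉ P := by
      by_contra h
      push_neg at h
      exact hu (by rw [← sum_support_decompose 𝒢 u]; exact sum_mem fun j _ => h j)
    refine ⟨decompose 𝒢 u j, fun h => hj (hhom j _ (decompose 𝒢 u j).2 h), decompose 𝒢 g (j + i), ?_⟩
    have h1 := congrArg (coactF 𝒢 L) hg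
    rw [map_mul, coactF_algebraMap, coactF_algebraMap, show coactF 𝒢 L z = _ from hi, ← map_mul] at h1
    have h2 := congrArg (fun q : L[X] => q.coeff (j + i)) (IsFractionRing.injective L[X] (FractionRing L[X]) h1)
    simp only [coeff_mul_monomial, coactL_coeff] at h2
    exact h2
  | zero => exact ⟨1, fun h => ‹p.IsPrime›.ne_top ((Ideal.eq_top_iff_one _).2 h), 0, by rw [map_zero, mul_zero]⟩
  | add b c hb hc ihb ihc =>
    obtain ⟨u, hu, g, hg⟩ := ihb
    obtain ⟨u', hu', g', hg'⟩ := ihc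
    refine ⟨u * u', fun h => (Ideal.IsPrime.mem_or_mem ‹_› h).elim hu hu', g * u' + u * g', ?_⟩
    rw [map_add, map_mul, map_mul, map_mul, hg, hg']; ring
  | neg b hb ihb =>
    obtain ⟨u, hu, g, hg⟩ := ihb
    exact ⟨u, hu, -g, by rw [map_neg, hg, mul_neg]⟩

omit [IsDomain G] in
theorem isIntegrallyClosed_of_forall_mul [IsDomain G] (p : Ideal G) [p.IsPrime]
    (h : ∀ y : L, IsIntegral G y → ∃ u ∉ p, ∃ g, algebraMap G L g = algebraMap G L u * y) :
    IsIntegrallyClosed (Localization.AtPrime p) := by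
  let f : Localization.AtPrime p →+* L := IsLocalization.lift (g := algebraMap G L) fun s : p.primeCompl =>
    (isUnit_iff_ne_zero).2 fun h => s.2 (by rw [(map_eq_zero_iff _ (IsFractionRing.injective G L)).1 h]; exact p.zero_mem)
  letI := f.toAlgebra
  haveI : IsScalarTower G (Localization.AtPrime p) L :=
    IsScalarTower.of_algebraMap_eq fun x => (IsLocalization.lift_eq _ x).symm
  haveI : IsFractionRing (Localization.AtPrime p) L :=
    IsFractionRing.isFractionRing_of_isDomain_of_isLocalization p.primeCompl (Localization.AtPrime p) L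
  refine (isIntegrallyClosed_iff L).2 fun {x} hx => ?_
  obtain ⟨⟨t, ht⟩, hint⟩ := IsIntegral.exists_multiple_integral_of_isLocalization p.primeCompl x hx
  obtain ⟨u, hu0, g, hg⟩ := h _ hint
  have hu : u * t ∈ p.primeCompl := p.primeCompl.mul_mem hu0 ht
  refine ⟨IsLocalization.mk' _ g ⟨_, hu⟩, ?_⟩
  have hne : algebraMap G L (u * t) ≠ 0 := fun h' => hu (by
    rw [(map_eq_zero_iff _ (IsFractionRing.injective G L)).1 h']; exact p.zero_mem)
  refine mul_left_cancel₀ hne ?_
  rw [IsScalarTower.algebraMap_apply G (Localization.AtPrime p) L (u * t), ← map_mul,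
    IsLocalization.mk'_spec'_mk, ← IsScalarTower.algebraMap_apply, hg, Submonoid.smul_def, Algebra.smul_def,
    ← IsScalarTower.algebraMap_apply, map_mul]
  ring

end GrothLib.GrNormal27
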