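import Mathlib.RingTheory.GradedAlgebra.Radical
import Mathlib.RingTheory.GradedAlgebra.Homogeneous.Ideal
import Mathlib.RingTheory.Polynomial.IsIntegral
import Mathlib.RingTheory.Adjoin.FG
import Mathlib.RingTheory.FiniteType
import Mathlib.RingTheory.Artinian.Ring
import Mathlib.RingTheory.HopkinsLevitzki
import Mathlib.RingTheory.Length

/-!
# The normalisation of a positively graded domain
-/

set_option autoImplicit false
universe u

open DirectSum Polynomial

attribute [local instance] Polynomial.algebra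

noncomputable section

namespace GrothLib.GrNormal27

section Coaction

variable {k G : Type u} [CommRing k] [CommRing G] [Algebra k G] (𝒢 : ℕ → Submodule k G) [GradedAlgebra 𝒢]

/-- `x ↦ ∑ xᵢ Xⁱ` -/
def coact : G →+* G[X] :=
  (DirectSum.toSemiring (fun i => (Polynomial.monomial i).toAddMonoidHom.comp (𝒢 i).subtype.toAddMonoidHom)
    (Polynomial.monomial_zero_one)
    (fun {i j} a b => (Polynomial.monomial_mul_monomial i j (a : G) (b : G)).symm)).comp
    (DirectSum.decomposeRingEquiv 𝒢).toRingHom

theorem coact_of_mem {i : ℕ} {x : G} (hx : x ∈ 𝒢 i) : coact 𝒢 x = monomial i x := by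
  have h : DirectSum.decompose 𝒢 x = DirectSum.of (fun i => 𝒢 i) i ⟨x, hx⟩ :=
    DirectSum.decompose_of_mem 𝒢 hx
  simp only [coact, RingHom.comp_apply, RingEquiv.toRingHom_eq_coe, RingHom.coe_coe]
  rw [show DirectSum.decomposeRingEquiv 𝒢 x = DirectSum.decompose 𝒢 x from rfl, h, DirectSum.toSemiring_of]
  rfl

theorem coact_coeff (x : G) (n : ℕ) : (coact 𝒢 x).coeff n = (decompose 𝒢 x n : G) := by
  classical
  induction x using DirectSum.Decomposition.inductionOn 𝒢 with
  | zero => simp
  | homogeneous m =>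
    rename_i i
    rw [coact_of_mem 𝒢 m.2, coeff_monomial]
    split_ifs with h
    · subst h; rw [decompose_of_mem_same 𝒢 m.2]
    · rw [decompose_of_mem_ne 𝒢 m.2 h]
  | add a b ha hb => rw [map_add, coeff_add, ha, hb, decompose_add, DirectSum.add_apply, Submodule.coe_add]

theorem coact_injective : Function.Injective (coact 𝒢) := fun x y h => by
  apply (decompose 𝒢).injective
  exact DFinsupp.ext fun n => Subtype.ext (by rw [← coact_coeff, ← coact_coeff, h])

variable [IsDomain G] (L : Type u) [Field L] [Algebra G L] [IsFractionRing G L]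

/-- the coaction with values in `L[X]` -/
def coactL : G →+* L[X] := (mapRingHom (algebraMap G L)).comp (coact 𝒢)

theorem coactL_coeff (x : G) (n : ℕ) : (coactL 𝒢 L x).coeff n = algebraMap G L (decompose 𝒢 x n : G) := by
  rw [coactL, RingHom.comp_apply, coe_mapRingHom, coeff_map, coact_coeff]

theorem coactL_of_mem {i : ℕ} {x : G} (hx : x ∈ 𝒢 i) : coactL 𝒢 L x = monomial i (algebraMap G L x) := by
  rw [coactL, RingHom.comp_apply, coe_mapRingHom, coact_of_mem 𝒢 hx, map_monomial]

theorem coactL_injective : Function.Injective (coactL 𝒢 L) :=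
  (map_injective _ (IsFractionRing.injective G L)).comp (coact_injective 𝒢)

/-- the coaction on the fraction field -/
def coactF : L →+* FractionRing L[X] :=
  IsFractionRing.lift (A := G) (g := (algebraMap L[X] (FractionRing L[X])).comp (coactL 𝒢 L))
    ((IsFractionRing.injective L[X] (FractionRing L[X])).comp (coactL_injective 𝒢 L))

theorem coactF_algebraMap (x : G) :
    coactF 𝒢 L (algebraMap G L x) = algebraMap L[X] (FractionRing L[X]) (coactL 𝒢 L x) :=
  IsFractionRing.lift_algebraMap _ x

/-- an element of `L` which is homogeneous of degree `i` -/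
def IsHomL (y : L) (i : ℕ) : Prop :=
  coactF 𝒢 L y = algebraMap L[X] (FractionRing L[X]) (monomial i y)

theorem exists_coact_poly {y : L} (hy : IsIntegral G y) :
    ∃ Y : L[X], coactF 𝒢 L y = algebraMap L[X] (FractionRing L[X]) Y ∧ ∀ n, IsIntegral G (Y.coeff n) := by
  obtain ⟨p, hp, hpy⟩ := hy
  have hF : (p.map (coactL 𝒢 L)).eval₂ (algebraMap L[X] (FractionRing L[X])) (coactF 𝒢 L y) = 0 := by
    rw [eval₂_map]
    have h : (algebraMap L[X] (FractionRing L[X])).comp (coactL 𝒢 L) = (coactF 𝒢 L).comp (algebraMap G L) :=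
      RingHom.ext fun x => (coactF_algebraMap 𝒢 L x).symm
    rw [h, ← hom_eval₂, hpy, map_zero]
  obtain ⟨Y, hY⟩ := IsIntegrallyClosed.isIntegral_iff.1
    (⟨p.map (coactL 𝒢 L), hp.map _, hF⟩ : IsIntegral L[X] (coactF 𝒢 L y))
  refine ⟨Y, hY.symm, fun n => ?_⟩
  refine IsIntegral.coeff (R := G) (p := Y) ?_ n
  refine ⟨p.map (coact 𝒢), hp.map _, IsFractionRing.injective L[X] (FractionRing L[X]) ?_⟩
  rw [eval₂_map, hom_eval₂, map_zero, hY]
  have : (algebraMap L[X] (FractionRing L[X])).comp ((algebraMap G[X] L[X]).comp (coact 𝒢)) =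
      (algebraMap L[X] (FractionRing L[X])).comp (coactL 𝒢 L) := rfl
  rw [this, ← eval₂_map]
  exact hF

theorem exists_homogeneous_sum {y : L} (hy : IsIntegral G y) :
    y ∈ AddSubgroup.closure {z : L | IsIntegral G z ∧ ∃ i, IsHomL 𝒢 L z i} := by
  classical
  suffices H : ∀ (c : ℕ) (y : L), IsIntegral G y → ∀ Y : L[X],
      coactF 𝒢 L y = algebraMap L[X] (FractionRing L[X]) Y → Y.support.card ≤ c →
      y ∈ AddSubgroup.closure {z : L | IsIntegral G z ∧ ∃ i, IsHomL 𝒢 L z i} by
    obtain ⟨Y, hY, -⟩ := exists_coact_poly 𝒢 L hy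
    exact H _ y hy Y hY le_rfl
  intro c
  induction c with
  | zero =>
    intro y _ Y hY hc
    have h0 : Y = 0 := card_support_eq_zero.1 (Nat.le_zero.1 hc)
    rw [h0, map_zero, map_eq_zero] at hY
    rw [hY]
    exact zero_mem _
  | succ c ih =>
    intro y hy Y hY hc
    rcases eq_or_ne Y 0 with rfl | hY0
    · rw [map_zero, map_eq_zero] at hY
      rw [hY]
      exact zero_mem _
    set e := Y.natTrailingDegree with he
    set z := Y.coeff e with hz
    have hzint : IsIntegral G z := by
      obtain ⟨Y', hY', hint⟩ := exists_coact_poly 𝒢 L hy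
      rw [hY] at hY'
      rw [hz, IsFractionRing.injective L[X] (FractionRing L[X]) hY']
      exact hint e
    have hhom : IsHomL 𝒢 L z e := by
      obtain ⟨⟨a, b⟩, hab⟩ := IsLocalization.surj (nonZeroDivisors G) y
      have hprod : Y * coactL 𝒢 L b = coactL 𝒢 L a :=
        IsFractionRing.injective L[X] (FractionRing L[X]) (by
          rw [map_mul, ← hY, ← coactF_algebraMap, ← map_mul, hab, coactF_algebraMap])
      set B := coactL 𝒢 L b with hB
      have hB0 : B ≠ 0 := fun h => nonZeroDivisors.coe_ne_zero b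
        (coactL_injective 𝒢 L (h.trans (map_zero _).symm))
      have hcoeff := congrArg (fun q : L[X] => q.coeff (e + B.natTrailingDegree)) hprod
      simp only [he, hB, coeff_mul_natTrailingDegree_add_natTrailingDegree, coactL_coeff] at hcoeff
      have htc : B.trailingCoeff = algebraMap G L (decompose 𝒢 (b : G) B.natTrailingDegree : G) := by
        rw [Polynomial.trailingCoeff, hB, coactL_coeff]
      set m := B.natTrailingDegree
      have hbm : (decompose 𝒢 (b : G) m : G) ≠ 0 := fun h => by
        rw [h, map_zero, trailingCoeff_eq_zero] at htc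
        exact hB0 htc
      have hz' : z * algebraMap G L (decompose 𝒢 (b : G) m : G) =
          algebraMap G L (decompose 𝒢 a (e + m) : G) := by
        rw [← htc]; exact hcoeff
      have h1 := congrArg (coactF 𝒢 L) hz'
      rw [map_mul, coactF_algebraMap, coactF_algebraMap, coactL_of_mem 𝒢 L (decompose 𝒢 (b : G) m).2,
        coactL_of_mem 𝒢 L (decompose 𝒢 a (e + m)).2, ← hz', ← monomial_mul_monomial, map_mul] at h1
      refine mul_right_cancel₀ ?_ h1
      rw [ne_eq, map_eq_zero_iff _ (IsFractionRing.injective L[X] (FractionRing L[X])), monomial_eq_zero_iff,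
        map_eq_zero_iff _ (IsFractionRing.injective G L)]
      exact hbm
    have hrest : y - z ∈ AddSubgroup.closure {z : L | IsIntegral G z ∧ ∃ i, IsHomL 𝒢 L z i} := by
      refine ih (y - z) (hy.sub hzint) (Y.erase e) ?_ ?_
      · rw [map_sub, hY, show coactF 𝒢 L z = _ from hhom, ← map_sub]
        congr 1
        rw [sub_eq_iff_eq_add, hz, add_comm (Y.erase e), monomial_add_erase]
      · rw [support_erase, Finset.card_erase_of_mem (mem_support_iff.2 (by
          rw [he]; exact trailingCoeff_nonzero_iff_nonzero.2 hY0))]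
        omega
    have := add_mem hrest (AddSubgroup.subset_closure (⟨hzint, e, hhom⟩ :
      z ∈ {z : L | IsIntegral G z ∧ ∃ i, IsHomL 𝒢 L z i}))
    rwa [sub_add_cancel] at this

/-- the cokernel of `G` in its normalisation -/
abbrev NQ : Type u := ↥(integralClosure G L) ⧸ LinearMap.range (Algebra.linearMap G ↥(integralClosure G L))

omit [IsDomain G] [IsFractionRing G L] in
theorem mem_annihilator_iff (r : G) :
    r ∈ Module.annihilator G (NQ (G := G) L) ↔ ∀ y : L, IsIntegral G y → ∃ g, algebraMap G L g = algebraMap G L r * y := by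
  rw [Module.mem_annihilator]
  constructor
  · intro h y hy
    obtain ⟨g, hg⟩ := (Submodule.Quotient.mk_eq_zero _).1
      ((Submodule.Quotient.mk_smul _ r (⟨y, hy⟩ : integralClosure G L)).trans (h _))
    exact ⟨g, (congrArg Subtype.val hg).trans (Algebra.smul_def r y)⟩
  · intro h q
    obtain ⟨⟨y, hy⟩, rfl⟩ := Submodule.Quotient.mk_surjective _ q
    obtain ⟨g, hg⟩ := h y hy
    exact (Submodule.Quotient.mk_smul _ r _).symm.trans ((Submodule.Quotient.mk_eq_zero _).2
      ⟨g, Subtype.ext (hg.trans (Algebra.smul_def r y).symm)⟩)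

/-- The conductor is homogeneous. -/
theorem isHomogeneous_annihilator : (Module.annihilator G (NQ (G := G) L)).IsHomogeneous 𝒢 := by
  classical
  intro j r hr
  rw [mem_annihilator_iff] at hr ⊢
  intro y hy
  have hmem := exists_homogeneous_sum 𝒢 L hy
  clear hy
  induction hmem using AddSubgroup.closure_induction with
  | mem z hz =>
    obtain ⟨hzint, i, hi⟩ := hz
    obtain ⟨g, hg⟩ := hr z hzint
    refine ⟨(decompose 𝒢 g (j + i) : G), ?_⟩
    have h1 := congrArg (coactF 𝒢 L) hg
    rw [map_mul, coactF_algebraMap, coactF_algebraMap, show coactF 𝒢 L z = _ from hi, ← map_mul] at h1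
    have h2 := congrArg (fun q : L[X] => q.coeff (j + i)) (IsFractionRing.injective L[X] (FractionRing L[X]) h1)
    simp only [coeff_mul_monomial, coactL_coeff] at h2
    exact h2
  | zero => exact ⟨0, by rw [map_zero, mul_zero]⟩
  | add a b _ _ ha hb =>
    obtain ⟨g, hg⟩ := ha
    obtain ⟨g', hg'⟩ := hb
    exact ⟨g + g', by rw [map_add, hg, hg', mul_add]⟩
  | neg a _ ha =>
    obtain ⟨g, hg⟩ := ha
    exact ⟨-g, by rw [map_neg, hg, mul_neg]⟩

end Coaction

variable {k G : Type u} [Field k] [CommRing G] [Algebra k G] (𝒢 : ℕ → Submodule k G) [GradedAlgebra 𝒢]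
  [IsDomain G] (L : Type u) [Field L] [Algebra G L] [IsFractionRing G L]
  (h0 : ∀ x ∈ 𝒢 0, x ∈ Set.range (algebraMap k G))

omit [IsDomain G] in
theorem mem_irrelevant_of_mem {i : ℕ} (hi : 0 < i) {x : G} (hx : x ∈ 𝒢 i) :
    x ∈ (HomogeneousIdeal.irrelevant 𝒢).toIdeal := by
  rw [HomogeneousIdeal.toIdeal_irrelevant, RingHom.mem_ker, GradedRing.projZeroRingHom_apply]
  exact decompose_of_mem_ne 𝒢 hx hi.ne'

omit [IsDomain G] in
include h0 in
theorem isMaximal_irrelevant [Nontrivial G] : (HomogeneousIdeal.irrelevant 𝒢).toIdeal.IsMaximal := by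
  rw [Ideal.isMaximal_iff]
  refine ⟨fun h => ?_, fun J x hle hx hxJ => ?_⟩
  · rw [HomogeneousIdeal.toIdeal_irrelevant, RingHom.mem_ker, map_one] at h
    exact one_ne_zero h
  · obtain ⟨c, hc⟩ := h0 _ (decompose 𝒢 x 0).2
    have hd : x - (decompose 𝒢 x 0 : G) ∈ J := hle (by
      rw [HomogeneousIdeal.toIdeal_irrelevant, RingHom.mem_ker, map_sub, GradedRing.projZeroRingHom_apply,
        GradedRing.projZeroRingHom_apply, decompose_of_mem_same 𝒢 (decompose 𝒢 x 0).2, sub_self])
    have hcJ : (decompose 𝒢 x 0 : G) ∈ J := by simpa using J.sub_mem hxJ hd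
    rcases eq_or_ne c 0 with rfl | hc0
    · refine absurd ?_ hx
      rw [HomogeneousIdeal.toIdeal_irrelevant, RingHom.mem_ker, GradedRing.projZeroRingHom_apply, ← hc, map_zero]
    · have h1 := J.mul_mem_left (algebraMap k G c⁻¹) hcJ
      rwa [← hc, ← map_mul, inv_mul_cancel₀ hc0, map_one] at h1

omit [IsDomain G] in
theorem irrelevant_eq_span :
    (HomogeneousIdeal.irrelevant 𝒢).toIdeal = Ideal.span {r : G | ∃ i, 0 < i ∧ r ∈ 𝒢 i} := by
  classical
  refine le_antisymm (fun x hx => ?_) (Ideal.span_le.2 fun r ⟨i, hi, hr⟩ => mem_irrelevant_of_mem 𝒢 hi hr)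
  rw [← sum_support_decompose 𝒢 x]
  refine sum_mem fun i _ => ?_
  rcases Nat.eq_zero_or_pos i with rfl | hi
  · rw [HomogeneousIdeal.toIdeal_irrelevant, RingHom.mem_ker, GradedRing.projZeroRingHom_apply] at hx
    rw [hx]; exact zero_mem _
  · exact Ideal.subset_span ⟨i, hi, (decompose 𝒢 x i).2⟩

omit [IsDomain G] in
include h0 in
theorem finiteType [IsNoetherianRing G] : Algebra.FiniteType k G := by
  classical
  obtain ⟨s, hs, hsp⟩ := (Submodule.fg_span_iff_fg_span_finset_subset (R := G) {r : G | ∃ i, 0 < i ∧ r ∈ 𝒢 i}).1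
    (IsNoetherian.noetherian _)
  choose d hd hdm using fun t (ht : t ∈ s) => hs ht
  refine ⟨⟨s, ?_⟩⟩
  have key : ∀ n : ℕ, ∀ x ∈ 𝒢 n, x ∈ Algebra.adjoin k (s : Set G) := by
    intro n
    induction n using Nat.strong_induction_on with
    | _ n ih =>
      intro x hx
      rcases Nat.eq_zero_or_pos n with rfl | hn
      · obtain ⟨c, rfl⟩ := h0 x hx
        exact Subalgebra.algebraMap_mem _ c
      · have hxs : x ∈ Ideal.span (s : Set G) := hsp.le (Ideal.subset_span ⟨n, hn, hx⟩)
        obtain ⟨f, hf⟩ := Submodule.mem_span_finset'.1 hxs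
        have hx' : x = ∑ t : s, (decompose 𝒢 (f t • (t : G)) n : G) := by
          conv_lhs => rw [← decompose_of_mem_same 𝒢 hx, ← hf, decompose_sum, DFinsupp.finsetSum_apply,
            AddSubmonoidClass.coe_finsetSum]
        rw [hx']
        refine Subalgebra.sum_mem _ fun t _ => ?_
        rw [smul_eq_mul, coe_decompose_mul_of_right_mem 𝒢 n (hdm t.1 t.2)]
        split_ifs with hle
        · exact Subalgebra.mul_mem _ (ih _ (by have := hd t.1 t.2; omega) _ (decompose 𝒢 _ _).2)
            (Algebra.subset_adjoin t.2)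
        · exact zero_mem _
  refine eq_top_iff.2 fun x _ => ?_
  rw [← sum_support_decompose 𝒢 x]
  exact Subalgebra.sum_mem _ fun i _ => key i _ (decompose 𝒢 x i).2

include h0 in
/-- The cokernel of the normalisation is killed by a power of the irrelevant ideal when of finite length. -/
theorem exists_pow_le_annihilator [IsNoetherianRing G] (hfin : IsFiniteLength G (NQ (G := G) L)) :
    ∃ N : ℕ, (HomogeneousIdeal.irrelevant 𝒢).toIdeal ^ N ≤ Module.annihilator G (NQ (G := G) L) := by
  classical
  set c := Module.annihilator G (NQ (G := G) L) with hc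
  obtain ⟨hnoe, hart⟩ := isFiniteLength_iff_isNoetherian_isArtinian.1 hfin
  haveI : Module.Finite G (NQ (G := G) L) := inferInstance
  haveI hq : IsArtinianRing (G ⧸ c) := by
    obtain ⟨n, gen, hgen⟩ := Module.Finite.exists_fin (R := G) (M := NQ (G := G) L)
    let f : G →ₗ[G] (Fin n → NQ (G := G) L) := LinearMap.pi fun i => LinearMap.toSpanSingleton G _ (gen i)
    have hker : c = LinearMap.ker f := by
      ext r
      rw [hc, Module.mem_annihilator, LinearMap.mem_ker]
      constructor
      · exact fun h => funext fun i => h (gen i)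
      · intro h q
        have hq : q ∈ Submodule.span G (Set.range gen) := hgen ▸ Submodule.mem_top
        induction hq using Submodule.span_induction with
        | mem x hx => obtain ⟨i, rfl⟩ := hx; exact congrFun h i
        | zero => exact smul_zero r
        | add a b _ _ ha hb => rw [smul_add, ha, hb, add_zero]
        | smul a b _ hb => rw [smul_comm, hb, smul_zero]
    haveI : IsArtinian G (G ⧸ c) :=
      isArtinian_of_linearEquiv ((Submodule.quotEquivOfEq _ _ hker).trans f.quotKerEquivRange).symm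
    exact isArtinian_of_tower G inferInstance
  refine Ideal.exists_pow_le_of_le_radical_of_fg ?_ (IsNoetherian.noetherian _)
  rw [Ideal.radical_eq_sInf]
  refine le_sInf fun P hP => ?_
  obtain ⟨hcP, hPp⟩ := hP
  have hcore : (P.homogeneousCore 𝒢).toIdeal.IsPrime := hPp.homogeneousCore
  have hccore : c ≤ (P.homogeneousCore 𝒢).toIdeal := by
    exact (isHomogeneous_annihilator 𝒢 L).toIdeal_homogeneousCore_eq_self.ge.trans
      (Ideal.homogeneousCore_mono 𝒢 hcP)
  have hmax : (P.homogeneousCore 𝒢).toIdeal.IsMaximal := by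
    have : ((P.homogeneousCore 𝒢).toIdeal.map (Ideal.Quotient.mk c)).IsPrime :=
      Ideal.map_isPrime_of_surjective Ideal.Quotient.mk_surjective (by rwa [Ideal.mk_ker])
    haveI := IsArtinianRing.isMaximal_of_isPrime ((P.homogeneousCore 𝒢).toIdeal.map (Ideal.Quotient.mk c))
    have h2 := Ideal.comap_isMaximal_of_surjective _ Ideal.Quotient.mk_surjective
      (K := (P.homogeneousCore 𝒢).toIdeal.map (Ideal.Quotient.mk c))
    rwa [Ideal.comap_map_of_surjective _ Ideal.Quotient.mk_surjective, ← RingHom.ker_eq_comap_bot, Ideal.mk_ker,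
      sup_eq_left.2 hccore] at h2
  refine le_trans ?_ (Ideal.toIdeal_homogeneousCore_le 𝒢 P)
  rw [irrelevant_eq_span, Ideal.span_le]
  rintro r ⟨i, hi, hr⟩
  by_contra hnot
  obtain ⟨s, hs⟩ := Ideal.Quotient.exists_inv (I := (P.homogeneousCore 𝒢).toIdeal)
    (fun h => hnot (Ideal.Quotient.eq_zero_iff_mem.1 h) : Ideal.Quotient.mk _ r ≠ 0)
  obtain ⟨s, rfl⟩ := Ideal.Quotient.mk_surjective s
  rw [← map_mul, ← map_one (Ideal.Quotient.mk (P.homogeneousCore 𝒢).toIdeal), Ideal.Quotient.eq] at hs
  have h3 := (P.homogeneousCore 𝒢).isHomogeneous 0 hs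
  rw [decompose_sub, DirectSum.sub_apply, AddSubgroupClass.coe_sub,
    coe_decompose_mul_of_left_mem_of_not_le 𝒢 hr (by omega), decompose_of_mem_same 𝒢 SetLike.GradedOne.one_mem,
    zero_sub, neg_mem_iff] at h3
  exact hcore.ne_top ((Ideal.eq_top_iff_one _).2 h3)

end GrothLib.GrNormal27
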